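import Cfsg.Agent.CosetEnum.MA7.BData

/-! Certificate of a coset enumeration (generated data, owner: helper28). -/

set_option autoImplicit false
set_option maxRecDepth 1000000

namespace Cfsg.Agent.CosetEnum.MA7B

def ck0 : CK := .cons 32 7 0x90000c50240001f40004800080240520499a0000fa0418700019a01100cab0001ed00393400007a00100880019a0ac0001f400c48400076800210158000ab4d00005d0003940000bd00a61c000fa80640120005c994000fa8045580001eb280003d0108000e2000384000308008400071438001ed00880015a00029401901cb280015500c800016410c000568000ea0189080002d01080a44800076800080240320010048044042ac000694000402200100480648400092804401200120110048004002009340000ea00100080009a0000ad00200100080040020010008004 ( .cons 32 0 0x4102480f000073400f00004d48400096802080e40720599a00013a000768000ed004400c401268000136a4000da80c407202900062ac0007340520006a8438001ad0ac0005b558000b280188084062051a900007a0397800007a03110e0000f4052029010801084300009a02100c80a4d00009aa180003d3400024a011a900005a007201900c80c401250c000f680148001620002c401100210108000324ca0000b403242000134090000d5008802089000125 ( .cons 3 0 0x1200013a0d000082d48001fd ( .nil )))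

theorem part0 : chunks P L 67 ck0 0 7 = true := by decide +kernel

end Cfsg.Agent.CosetEnum.MA7B
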